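import Groth.Agent.FibDimLib.Smooth
import Groth.Agent.FibDimLib.Comps
import Groth.Agent.CohenLib.RegularField
import Groth.Agent.CommAlgDim.Regular
import Mathlib.RingTheory.Smooth.StandardSmoothOfFree
import Mathlib.RingTheory.KrullDimension.NonZeroDivisors

/-!
# Dimension and differentials of an algebra over a field at a smooth point
-/

set_option autoImplicit false
set_option linter.style.haveILetI false
universe u
open CategoryTheory CategoryTheory.Limits AlgebraicGeometry TopologicalSpace Topology TensorProduct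

noncomputable section

namespace SmoothDimLib

/-- Over a field the fibre dimension is the local dimension. -/
theorem fibreDimAt_eq_localDim {k : Type u} [Field k] {X : Scheme.{u}} (f : X ⟶ Spec (CommRingCat.of k)) (x : X) :
    FlatMor.fibreDimAt f x = FlatMor.localDim X x := by
  haveI : Subsingleton ↥(Spec (CommRingCat.of k)) := inferInstanceAs (Subsingleton (PrimeSpectrum k))
  have hemb : IsOpenEmbedding (f.fiberι (f.base x)).base := by
    refine ⟨(f.fiberι (f.base x)).isEmbedding, ?_⟩
    rw [f.range_fiberι]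
    convert isOpen_univ
    ext y
    simp [Subsingleton.elim (f.base y) (f.base x)]
  have h := FibDimLib.localDim_eq_of_isOpenEmbedding hemb (f.asFiber x)
  rw [f.fiberι_asFiber] at h
  exact h.symm

variable {k : Type u} [Field k]

/-- Local dimension of a standard smooth algebra over a field. -/
theorem localDim_eq_of_standardSmooth (n : ℕ) (A : Type u) [CommRing A] [Algebra k A]
    [Algebra.IsStandardSmoothOfRelativeDimension n k A] (x : PrimeSpectrum A) :
    FlatMor.localDim (PrimeSpectrum A) x = n := by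
  let f := Spec.map (CommRingCat.ofHom (algebraMap k A))
  haveI : SmoothOfRelativeDimension n f := by
    rw [HasRingHomProperty.Spec_iff (P := @SmoothOfRelativeDimension n)]
    refine RingHom.locally_of ?_ _ ?_
    · exact RingHom.isStandardSmoothOfRelativeDimension_respectsIso
    · exact (RingHom.isStandardSmoothOfRelativeDimension_algebraMap n).mpr ‹_›
  exact (fibreDimAt_eq_localDim f x).symm.trans (FibDimLib.fibreDimAt_smoothOfRelativeDimension n f x)

/-- Krull dimension of a standard smooth domain over a field. -/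
theorem ringKrullDim_eq_of_standardSmooth (n : ℕ) (A : Type u) [CommRing A] [IsDomain A] [Algebra k A]
    [Algebra.IsStandardSmoothOfRelativeDimension n k A] : ringKrullDim A = n := by
  let f := Spec.map (CommRingCat.ofHom (algebraMap k A))
  haveI : Algebra.IsStandardSmooth k A := Algebra.IsStandardSmoothOfRelativeDimension.isStandardSmooth n
  haveI : LocallyOfFiniteType f := by
    rw [HasRingHomProperty.Spec_iff (P := @LocallyOfFiniteType)]
    exact RingHom.finiteType_algebraMap.mpr inferInstance
  haveI : IrreducibleSpace ↥(Spec (CommRingCat.of A)) := PrimeSpectrum.irreducibleSpace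
  let x : PrimeSpectrum A := ⟨⊥, Ideal.isPrime_bot⟩
  exact ((PrimeSpectrum.topologicalKrullDim_eq_ringKrullDim A).symm.trans
    (FibDimLib.localDim_of_irreducible (F := Spec (CommRingCat.of A)) f x).symm).trans (localDim_eq_of_standardSmooth (k := k) n A x)

/-- A prime with integral local ring has an integral affine neighbourhood. -/
theorem exists_isDomain_away {R : Type u} [CommRing R] [IsNoetherianRing R] (q : Ideal R) [q.IsPrime]
    [IsDomain (Localization.AtPrime q)] :
    ∃ g : R, g ∉ q ∧ ∀ h : R, h ∉ q → ∀ (A : Type u) [CommRing A] [Algebra R A] [IsLocalization.Away (g * h) A],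
      IsDomain A := by
  classical
  let P₀ := RingHom.ker (algebraMap R (Localization.AtPrime q))
  obtain ⟨s, hs⟩ : P₀.FG := IsNoetherian.noetherian P₀
  have hk : ∀ a : R, a ∈ P₀ → ∃ c : R, c ∉ q ∧ c * a = 0 := fun a ha => by
    obtain ⟨⟨c, hc⟩, h⟩ := (IsLocalization.map_eq_zero_iff q.primeCompl (Localization.AtPrime q) a).mp ha
    exact ⟨c, hc, h⟩
  choose! c hc using hk
  refine ⟨∏ a ∈ s, c a, fun hmem => ?_, fun h hh A _ _ _ => ?_⟩
  · obtain ⟨a, ha, h'⟩ := Ideal.IsPrime.prod_mem_iff.mp hmem
    exact (hc a (hs ▸ Submodule.subset_span ha)).1 h'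
  let g := ∏ a ∈ s, c a
  have hgq : g ∉ q := fun hmem => by
    obtain ⟨a, ha, h'⟩ := Ideal.IsPrime.prod_mem_iff.mp hmem
    exact (hc a (hs ▸ Submodule.subset_span ha)).1 h'
  have hg : ∀ a ∈ P₀, g * a = 0 := by
    intro a ha
    have hle : Submodule.span R (s : Set R) ≤ LinearMap.ker (LinearMap.mulLeft R g) := by
      refine Submodule.span_le.mpr fun b hb => ?_
      obtain ⟨d, hd⟩ := Finset.dvd_prod_of_mem c hb
      show g * b = 0
      rw [show g = c b * d from hd, mul_right_comm, (hc b (hs ▸ Submodule.subset_span hb)).2, zero_mul]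
    exact hle (hs.ge ha)
  have hP : ∀ a ∈ P₀, algebraMap R A a = 0 := fun a ha => by
    refine (IsLocalization.map_eq_zero_iff (Submonoid.powers (g * h)) A a).mpr
      ⟨⟨g * h, Submonoid.mem_powers _⟩, ?_⟩
    show g * h * a = 0
    rw [mul_right_comm, hg a ha, zero_mul]
  haveI : Nontrivial A := by
    refine ⟨⟨0, 1, fun h01 => ?_⟩⟩
    obtain ⟨⟨_, m, rfl⟩, hm⟩ :=
      (IsLocalization.map_eq_zero_iff (Submonoid.powers (g * h)) A (1 : R)).mp ((map_one _).trans h01.symm)
    exact (Ideal.IsPrime.mul_notMem ‹_› hgq hh) (Ideal.IsPrime.mem_of_pow_mem ‹q.IsPrime› m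
      ((show (g * h) ^ m = 0 by simpa using hm) ▸ zero_mem q))
  haveI : NoZeroDivisors A := ⟨fun {x y} hxy => by
    obtain ⟨a, s₁, rfl⟩ := IsLocalization.exists_mk'_eq (Submonoid.powers (g * h)) x
    obtain ⟨b, s₂, rfl⟩ := IsLocalization.exists_mk'_eq (Submonoid.powers (g * h)) y
    rw [← IsLocalization.mk'_mul, IsLocalization.mk'_eq_zero_iff] at hxy
    obtain ⟨⟨_, m, rfl⟩, hm⟩ := hxy
    have hu : IsUnit (algebraMap R (Localization.AtPrime q) ((g * h) ^ m)) :=
      IsLocalization.map_units (Localization.AtPrime q)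
        (⟨(g * h) ^ m, fun h' => Ideal.IsPrime.mul_notMem ‹_› hgq hh (Ideal.IsPrime.mem_of_pow_mem ‹q.IsPrime› m h')⟩ : q.primeCompl)
    have h0 := congrArg (algebraMap R (Localization.AtPrime q)) hm
    rw [map_mul, map_zero] at h0
    rw [hu.mul_right_eq_zero, map_mul, mul_eq_zero] at h0
    rcases h0 with ha | hb
    · exact Or.inl (by rw [IsLocalization.mk'_eq_mul_mk'_one, hP a ha, zero_mul])
    · exact Or.inr (by rw [IsLocalization.mk'_eq_mul_mk'_one, hP b hb, zero_mul])⟩
  exact NoZeroDivisors.to_isDomain A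

/-- `K ⊗ Ω` does not change under localisation. -/
def tensorKaehlerLocEquiv (R R' : Type u) [CommRing R] [Algebra k R] [CommRing R'] [Algebra k R'] [Algebra R R']
    [IsScalarTower k R R'] (M : Submonoid R) [IsLocalization M R'] (K : Type u) [Field K] [Algebra R K] [Algebra R' K]
    [IsScalarTower R R' K] : K ⊗[R] Ω[R⁄k] ≃ₗ[K] K ⊗[R'] Ω[R'⁄k] :=
  haveI := Algebra.FormallyEtale.of_isLocalization (Rₘ := R') M
  (AlgebraTensorModule.cancelBaseChange R R' K K Ω[R⁄k]).symm ≪≫ₗ
    AlgebraTensorModule.congr (LinearEquiv.refl K K) (KaehlerDifferential.tensorKaehlerEquivOfFormallyEtale k R R')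

theorem tensorKaehlerLocEquiv_tmul (R R' : Type u) [CommRing R] [Algebra k R] [CommRing R'] [Algebra k R'] [Algebra R R']
    [IsScalarTower k R R'] (M : Submonoid R) [IsLocalization M R'] (K : Type u) [Field K] [Algebra R K] [Algebra R' K]
    [IsScalarTower R R' K] (c : K) (r : R) :
    tensorKaehlerLocEquiv (k := k) R R' M K (c ⊗ₜ KaehlerDifferential.D k R r) =
      c ⊗ₜ KaehlerDifferential.D k R' (algebraMap R R' r) := by
  simp [tensorKaehlerLocEquiv]

variable {R : Type u} [CommRing R] [Algebra k R] [Algebra.FiniteType k R]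

/-- Near a smooth point: a standard smooth integral chart of the dimension read off the differentials. -/
theorem exists_chart (q : Ideal R) [q.IsPrime] [Algebra.IsSmoothAt k q] (K : Type u) [Field K] [Algebra R K]
    (hK : RingHom.ker (algebraMap R K) = q) :
    ∃ g : R, g ∉ q ∧ IsDomain (Localization.Away g) ∧
      ringKrullDim (Localization.Away g) = Module.finrank K (K ⊗[R] Ω[R⁄k]) ∧
      FlatMor.localDim (PrimeSpectrum R) ⟨q, ‹_›⟩ = Module.finrank K (K ⊗[R] Ω[R⁄k]) := by
  haveI : IsNoetherianRing R := Algebra.FiniteType.isNoetherianRing k R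
  haveI : Algebra.FinitePresentation k R := Algebra.FinitePresentation.of_finiteType.mp ‹_›
  haveI : IsNoetherianRing (Localization.AtPrime q) := IsLocalization.isNoetherianRing q.primeCompl _ inferInstance
  haveI : Algebra.FormallySmooth k (Localization.AtPrime q) := ‹Algebra.IsSmoothAt k q›
  haveI : IsRegularLocalRing (Localization.AtPrime q) := CohenLib.isRegularLocalRing_of_formallySmooth (k := k)
  haveI : IsDomain (Localization.AtPrime q) := CommAlgDim.isDomain_of_isRegularLocalRing _
  obtain ⟨g₂, hg₂, hdom⟩ := exists_isDomain_away q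
  obtain ⟨g₁, hg₁, hstd⟩ := Algebra.IsSmoothAt.exists_notMem_isStandardSmooth k q
  let g := g₂ * g₁
  let A₁ := Localization.Away g₁
  let A := Localization.Away g
  haveI : IsDomain A := hdom g₁ hg₁ A
  let A₂ := Localization.Away (algebraMap R A₁ g₂)
  haveI : IsLocalization.Away g A₂ := by
    have h := IsLocalization.Away.mul' A₁ A₂ g₁ g₂
    rwa [mul_comm] at h
  haveI : Algebra.IsStandardSmooth A₁ A₂ := Algebra.IsStandardSmooth.localization_away (algebraMap R A₁ g₂)
  haveI : Algebra.IsStandardSmooth k A₂ := Algebra.IsStandardSmooth.trans k A₁ A₂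
  haveI : Algebra.IsStandardSmooth k A := Algebra.IsStandardSmooth.of_algEquiv
    ((IsLocalization.algEquiv (Submonoid.powers g) A₂ A).restrictScalars k)
  obtain ⟨ι, σ, _, _, ⟨P⟩⟩ := ‹Algebra.IsStandardSmooth k A›.out
  haveI : Algebra.IsStandardSmoothOfRelativeDimension P.dimension k A := P.isStandardSmoothOfRelativeDimension rfl
  have hgq : g ∉ q := Ideal.IsPrime.mul_notMem ‹_› hg₂ hg₁
  have hu : ∀ y : Submonoid.powers g, IsUnit (algebraMap R K y) := fun ⟨y, m, hm⟩ => by
    refine IsUnit.mk0 _ fun h0 => hgq (Ideal.IsPrime.mem_of_pow_mem ‹q.IsPrime› m ?_)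
    rw [← hK, RingHom.mem_ker]
    show algebraMap R K (g ^ m) = 0
    rw [show g ^ m = y from hm]
    exact h0
  letI : Algebra A K := (IsLocalization.lift hu).toAlgebra
  haveI : IsScalarTower R A K := IsScalarTower.of_algebraMap_eq fun r => (IsLocalization.lift_eq hu r).symm
  have hfin : Module.finrank K (K ⊗[R] Ω[R⁄k]) = P.dimension := by
    rw [(tensorKaehlerLocEquiv (k := k) R A (Submonoid.powers g) K).finrank_eq, Module.finrank_baseChange]
    exact Module.finrank_eq_of_rank_eq (Algebra.IsStandardSmoothOfRelativeDimension.rank_kaehlerDifferential P.dimension)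
  refine ⟨g, hgq, inferInstance, by rw [hfin]; exact ringKrullDim_eq_of_standardSmooth (k := k) P.dimension A, ?_⟩
  rw [hfin]
  obtain ⟨x, hx⟩ : (⟨q, ‹_›⟩ : PrimeSpectrum R) ∈ Set.range (PrimeSpectrum.comap (algebraMap R A)) := by
    rw [PrimeSpectrum.localization_away_comap_range A g]
    exact hgq
  rw [← hx]
  exact (FibDimLib.localDim_eq_of_isOpenEmbedding (PrimeSpectrum.localization_away_isOpenEmbedding A g) x).trans
    (localDim_eq_of_standardSmooth (k := k) P.dimension A x)

end SmoothDimLib

end
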