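import Groth.Agent.SmoothDimLib.Fibre
import Groth.Agent.FittLib.Generated
import Groth.Agent.OmegaAffLib.Consequences
import Groth.Agent.CohBCLib.FreeNhd

/-!
# Smooth points and the sheaf of differentials
-/

set_option autoImplicit false
set_option linter.style.haveILetI false
universe u
open CategoryTheory CategoryTheory.Limits AlgebraicGeometry TopologicalSpace TensorProduct Opposite

noncomputable section

namespace SmoothDimLib

variable {X S : Scheme.{u}} {f : X ⟶ S} [LocallyOfFinitePresentation f] {Ω' : X.Modules} {d : OmegaSh.Der f Ω'}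

theorem smoothLocus_chart (hd : OmegaSh.IsUniversal d) {U : S.Opens} (hU : IsAffineOpen U) {V : X.Opens} (hV : IsAffineOpen V) (e : V ≤ f ⁻¹ᵁ U)
    (x : X) (hx : x ∈ V) :
    (x ∈ f.smoothLocus ↔ (f.stalkMap x).hom.Flat ∧
      (((Module.finrank (hV.primeIdealOf ⟨x, hx⟩).asIdeal.ResidueField
        ((hV.primeIdealOf ⟨x, hx⟩).asIdeal.ResidueField ⊗[Γ(X, V)] Γ(Ω', V)) : ℕ) : ℕ∞) : WithBot ℕ∞) ≤
          FlatMor.fibreDimAt f x) ∧
    (x ∈ f.smoothLocus →
      FlatMor.fibreDimAt f x = (((Module.finrank (hV.primeIdealOf ⟨x, hx⟩).asIdeal.ResidueField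
        ((hV.primeIdealOf ⟨x, hx⟩).asIdeal.ResidueField ⊗[Γ(X, V)] Γ(Ω', V)) : ℕ) : ℕ∞) : WithBot ℕ∞)) := by
  letI := (f.appLE U V e).hom.toAlgebra
  obtain ⟨φ, -⟩ := OmegaAffLib.exists_equiv hd hU hV e
  rw [← (AlgebraTensorModule.congr
    (LinearEquiv.refl (hV.primeIdealOf ⟨x, hx⟩).asIdeal.ResidueField (hV.primeIdealOf ⟨x, hx⟩).asIdeal.ResidueField)
    φ).finrank_eq]
  exact mem_smoothLocus_iff f hU hV e x hx

/-- Smooth at a point: flat, with differentials free of rank the fibre dimension. -/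
theorem mem_smoothLocus_iff_free (hd : OmegaSh.IsUniversal d) (x : X) :
    x ∈ f.smoothLocus ↔ (f.stalkMap x).hom.Flat ∧
      ∃ (W : X.Opens) (n : ℕ), x ∈ W ∧ Nonempty (Ω'.restrict W.ι ≅ FlatMod.freeMod (↑W) n) ∧
        FlatMor.fibreDimAt f x = (n : WithBot ℕ∞) := by
  haveI := OmegaAffLib.isQCoh_of_isUniversal hd
  obtain ⟨U, hU, hxU, -⟩ := exists_isAffineOpen_mem_and_subset (X := S) (x := f x) (U := ⊤) trivial
  constructor
  · intro hs
    obtain ⟨V, hV, hxV, hle⟩ := exists_isAffineOpen_mem_and_subset (X := X) (x := x) (U := f ⁻¹ᵁ U ⊓ f.smoothLocus) ⟨hxU, hs⟩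
    have e : V ≤ f ⁻¹ᵁ U := fun z hz => (hle hz).1
    obtain ⟨hiff, heq⟩ := smoothLocus_chart hd hU hV e x hxV
    refine ⟨(hiff.mp hs).1, ?_⟩
    letI := (f.appLE U V e).hom.toAlgebra
    haveI : Algebra.FinitePresentation Γ(S, U) Γ(X, V) := f.finitePresentation_appLE hU hV e
    haveI : Algebra.FormallySmooth Γ(S, U) Γ(X, V) := by
      rw [← Algebra.smoothLocus_eq_univ_iff, Set.eq_univ_iff_forall]
      intro z
      have hzV : hV.fromSpec z ∈ V := by
        have h1 : hV.fromSpec z ∈ Set.range hV.fromSpec := ⟨z, rfl⟩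
        rwa [hV.range_fromSpec] at h1
      have hz : hV.primeIdealOf ⟨hV.fromSpec z, hzV⟩ = z :=
        hV.fromSpec.isOpenEmbedding.injective (hV.fromSpec_primeIdealOf ⟨_, hzV⟩)
      have h2 := Scheme.Hom.mem_smoothLocus.mp (hle hzV).2
      rw [formallySmooth_stalkMap_iff U hU V hV e hzV] at h2
      rw [← hz]
      exact h2
    obtain ⟨φ, -⟩ := OmegaAffLib.exists_equiv hd hU hV e
    haveI : Module.Finite Γ(X, V) Γ(Ω', V) := Module.Finite.equiv φ
    haveI : Module.Projective Γ(X, V) Γ(Ω', V) := Module.Projective.of_equiv φ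
    obtain ⟨W, hxW, hW⟩ := CohBCLib.exists_free_nhd hV Ω' (hV.primeIdealOf ⟨x, hxV⟩) rfl
    rw [hV.fromSpec_primeIdealOf] at hxW
    exact ⟨W, _, hxW, hW, heq hs⟩
  · rintro ⟨hfl, W, n, hxW, ⟨ψ⟩, hn⟩
    obtain ⟨V, hV, hxV, hle⟩ := exists_isAffineOpen_mem_and_subset (X := X) (x := x) (U := f ⁻¹ᵁ U ⊓ W) ⟨hxU, hxW⟩
    obtain ⟨hiff, -⟩ := smoothLocus_chart hd hU hV (fun z hz => (hle hz).1) x hxV
    obtain ⟨b⟩ := FittLib.nonempty_basis_of_iso Ω' ψ (V := V) (fun z hz => (hle hz).2)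
    refine hiff.mpr ⟨hfl, le_of_eq ?_⟩
    rw [hn, Module.finrank_eq_card_basis (b.baseChange _), Fintype.card_fin]
    rfl

theorem mem_smoothLocus_iff_exists (x : X) :
    x ∈ f.smoothLocus ↔ ∃ U : X.Opens, x ∈ U ∧ Smooth (U.ι ≫ f) := by
  constructor
  · intro hs
    refine ⟨f.smoothLocus, hs, Scheme.Hom.smoothLocus_eq_top_iff.mp ?_⟩
    rw [← Scheme.Hom.preimage_smoothLocus_eq, eq_top_iff]
    rintro ⟨z, hz⟩ -
    exact hz
  · rintro ⟨U, hxU, hU⟩
    have h : (⟨x, hxU⟩ : (U : Scheme.{u})) ∈ U.ι ⁻¹ᵁ f.smoothLocus := by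
      rw [Scheme.Hom.preimage_smoothLocus_eq, Scheme.Hom.smoothLocus_eq_top]
      trivial
    exact h

/-- The `d`-th Fitting ideal of the differentials cuts out the non-smooth points. -/
theorem support_fitting_omega (hd : OmegaSh.IsUniversal d) [Flat f] (n : ℕ)
    (hdim : ∀ s : S, ∀ T ∈ irreducibleComponents ↥(f.fiber s), topologicalKrullDim ↥T = n) (x : X) :
    x ∈ (Fitt.sheafIdeal Ω' n).support ↔ ¬ ∃ U : X.Opens, x ∈ U ∧ Smooth (U.ι ≫ f) := by
  haveI := OmegaAffLib.isQCoh_of_isUniversal hd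
  have hft : CohB1.IsFT Ω' := OmegaAffLib.isFT_of_isUniversal hd
  have hfd : FlatMor.fibreDimAt f x = (n : WithBot ℕ∞) := by
    haveI : LocallyOfFiniteType (f.fiberToSpecResidueField (f.base x)) := UOpenLib.lft_fiberToSpec f _
    obtain ⟨g, hg, -, hgd⟩ := FibDimLib.exists_generic_localDim (k := S.residueField (f.base x))
      (f.fiberToSpecResidueField (f.base x)) (f.asFiber x)
    exact hgd.trans (hdim _ _ hg)
  obtain ⟨U, hU, hxU, -⟩ := exists_isAffineOpen_mem_and_subset (X := S) (x := f x) (U := ⊤) trivial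
  obtain ⟨V, hV, hxV, e⟩ := exists_isAffineOpen_mem_and_subset (X := X) (x := x) (U := f ⁻¹ᵁ U) hxU
  haveI := QCohLib.finite_of_isFT hft hV
  rw [← not_iff_not, not_not, ← mem_smoothLocus_iff_exists, (smoothLocus_chart hd hU hV e x hxV).1,
    FittLib.mem_support_iff Ω' hft n hV hxV, FittLib.finrank_fibre_le_iff, hfd,
    and_iff_right (Flat.stalkMap f x)]
  exact (WithBot.coe_le_coe.trans Nat.cast_le).symm

end SmoothDimLib

end
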