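import Groth.Agent.SmoothDimLib.Criterion
import Groth.Agent.DepthLib.SmoothCons

/-!
# Smooth points through the rank of the differentials and the fibre dimension
-/

set_option autoImplicit false
set_option linter.style.haveILetI false
universe u
open CategoryTheory CategoryTheory.Limits AlgebraicGeometry TopologicalSpace TensorProduct Opposite

noncomputable section

namespace SmoothDimLib

/-- Residue dimensions of differentials, in the fibre. -/
theorem smoothLocus_iff (A B : Type u) [CommRing A] [CommRing B] [Algebra A B] [Algebra.FinitePresentation A B]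
    (q : PrimeSpectrum B) (Q : PrimeSpectrum ((q.asIdeal.comap (algebraMap A B)).Fiber B))
    (hQ : Q.asIdeal.comap (Algebra.TensorProduct.includeRight.toRingHom) = q.asIdeal) :
    (q ∈ Algebra.smoothLocus A B ↔ q ∈ FlatLib.flatLocus A B B ∧
      (((Module.finrank q.asIdeal.ResidueField (q.asIdeal.ResidueField ⊗[B] Ω[B⁄A]) : ℕ) : ℕ∞) : WithBot ℕ∞) ≤
        FlatMor.localDim (PrimeSpectrum ((q.asIdeal.comap (algebraMap A B)).Fiber B)) Q) ∧
    (q ∈ Algebra.smoothLocus A B →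
      FlatMor.localDim (PrimeSpectrum ((q.asIdeal.comap (algebraMap A B)).Fiber B)) Q =
        (((Module.finrank q.asIdeal.ResidueField (q.asIdeal.ResidueField ⊗[B] Ω[B⁄A]) : ℕ) : ℕ∞) : WithBot ℕ∞)) := by
  let p := q.asIdeal.comap (algebraMap A B)
  let κ := p.ResidueField
  let K := q.asIdeal.ResidueField
  let C := p.Fiber B
  haveI : q.asIdeal.LiesOver p := ⟨rfl⟩
  haveI : Algebra.FiniteType κ C := inferInstance
  letI : Algebra κ K := (Ideal.ResidueField.map p q.asIdeal (algebraMap A B) rfl).toAlgebra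
  haveI : IsScalarTower A κ K := IsScalarTower.of_algebraMap_eq fun r => by
    rw [IsScalarTower.algebraMap_apply A B K]
    exact (Ideal.ResidueField.map_algebraMap p q.asIdeal (algebraMap A B) rfl r).symm
  let θ : C →ₐ[κ] K := Algebra.TensorProduct.lift (Algebra.ofId κ K) (IsScalarTower.toAlgHom A B K) fun _ _ => Commute.all _ _
  letI : Algebra B C := Algebra.TensorProduct.rightAlgebra
  letI : Algebra C K := θ.toRingHom.toAlgebra
  haveI : IsScalarTower B C K := IsScalarTower.of_algebraMap_eq fun b => by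
    show algebraMap B K b = θ (1 ⊗ₜ b)
    exact (by rw [show θ (1 ⊗ₜ b) = Algebra.ofId κ K 1 * IsScalarTower.toAlgHom A B K b from Algebra.TensorProduct.lift_tmul _ _ _ _ _, map_one, one_mul]; rfl)
  let Q' : PrimeSpectrum C := ⟨RingHom.ker (algebraMap C K), RingHom.ker_isPrime _⟩
  have hQ' : Q'.asIdeal.comap (Algebra.TensorProduct.includeRight.toRingHom) = q.asIdeal := by
    ext b
    show θ (1 ⊗ₜ b) = 0 ↔ _
    rw [show θ (1 ⊗ₜ b) = algebraMap B K b from (IsScalarTower.algebraMap_apply B C K b).symm]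
    exact Ideal.algebraMap_residueField_eq_zero
  have hQQ : Q' = Q := by
    apply (PrimeSpectrum.preimageHomeomorphFiber A B ⟨p, inferInstance⟩).symm.injective
    exact Subtype.ext (PrimeSpectrum.ext (hQ'.trans hQ.symm))
  subst hQQ
  haveI hQprime : (RingHom.ker (algebraMap C K)).IsPrime := RingHom.ker_isPrime _
  haveI : Algebra.IsPushout A κ B C := inferInstance
  have hrank : Module.finrank K (K ⊗[C] Ω[C⁄κ]) = Module.finrank K (K ⊗[B] Ω[B⁄A]) :=
    ((AlgebraTensorModule.cancelBaseChange B C K K Ω[B⁄A]).symm ≪≫ₗ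
      AlgebraTensorModule.congr (LinearEquiv.refl K K) (KaehlerDifferential.tensorKaehlerEquiv A κ B C)).finrank_eq.symm
  have key : Q' ∈ Algebra.smoothLocus κ C ↔ q ∈ DepthLib.fibSmooth A B := DepthLib.mem_fibSmooth_iff κ Q' q hQ'
  refine ⟨?_, fun h => ?_⟩
  · rw [DepthLib.mem_smoothLocus_iff_flat_fibSmooth A B q, ← key]
    refine and_congr_right fun _ => ⟨fun h => ?_, fun h => ?_⟩
    · haveI : Algebra.IsSmoothAt κ (RingHom.ker (algebraMap C K)) := h
      obtain ⟨g, -, -, -, hg⟩ := exists_chart (k := κ) (RingHom.ker (algebraMap C K)) K rfl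
      exact le_of_eq ((congrArg (fun m : ℕ => ((m : ℕ∞) : WithBot ℕ∞)) hrank.symm).trans hg.symm)
    · exact isSmoothAt_of_finrank_le (k := κ) (RingHom.ker (algebraMap C K)) K rfl
        (le_trans (le_of_eq (congrArg (fun m : ℕ => ((m : ℕ∞) : WithBot ℕ∞)) hrank)) h)
  · haveI : Algebra.IsSmoothAt κ (RingHom.ker (algebraMap C K)) :=
      key.mpr ((DepthLib.mem_smoothLocus_iff_flat_fibSmooth A B q).mp h).2
    obtain ⟨g, -, -, -, hg⟩ := exists_chart (k := κ) (RingHom.ker (algebraMap C K)) K rfl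
    exact hg.trans (congrArg (fun m : ℕ => ((m : ℕ∞) : WithBot ℕ∞)) hrank)

variable {X S : Scheme.{u}} (f : X ⟶ S) [LocallyOfFinitePresentation f]

/-- Smooth points in an affine chart. -/
theorem mem_smoothLocus_iff {U : S.Opens} (hU : IsAffineOpen U) {V : X.Opens} (hV : IsAffineOpen V) (e : V ≤ f ⁻¹ᵁ U)
    (x : X) (hx : x ∈ V) :
    letI := (f.appLE U V e).hom.toAlgebra
    (x ∈ f.smoothLocus ↔ (f.stalkMap x).hom.Flat ∧
      (((Module.finrank (hV.primeIdealOf ⟨x, hx⟩).asIdeal.ResidueField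
        ((hV.primeIdealOf ⟨x, hx⟩).asIdeal.ResidueField ⊗[Γ(X, V)] Ω[Γ(X, V)⁄Γ(S, U)]) : ℕ) : ℕ∞) : WithBot ℕ∞) ≤
          FlatMor.fibreDimAt f x) ∧
    (x ∈ f.smoothLocus →
      FlatMor.fibreDimAt f x = (((Module.finrank (hV.primeIdealOf ⟨x, hx⟩).asIdeal.ResidueField
        ((hV.primeIdealOf ⟨x, hx⟩).asIdeal.ResidueField ⊗[Γ(X, V)] Ω[Γ(X, V)⁄Γ(S, U)]) : ℕ) : ℕ∞) : WithBot ℕ∞)) := by
  letI := (f.appLE U V e).hom.toAlgebra
  haveI : Algebra.FinitePresentation Γ(S, U) Γ(X, V) := f.finitePresentation_appLE hU hV e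
  obtain ⟨Q, hQ, hQd⟩ := FibDimLib.fibreDimAt_eq_affine f x hU hV e hx
  have hp : (hV.primeIdealOf ⟨x, hx⟩).asIdeal.comap (algebraMap Γ(S, U) Γ(X, V)) =
      (hU.primeIdealOf ⟨f x, e hx⟩).asIdeal :=
    congrArg PrimeSpectrum.asIdeal (IsAffineOpen.comap_primeIdealOf_appLE U hU V hV e hx)
  have H : ∀ (p : Ideal Γ(S, U)) [p.IsPrime] (Q : PrimeSpectrum (p.Fiber Γ(X, V))),
      Q.asIdeal.comap (Algebra.TensorProduct.includeRight.toRingHom) = (hV.primeIdealOf ⟨x, hx⟩).asIdeal →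
      (hV.primeIdealOf ⟨x, hx⟩).asIdeal.comap (algebraMap Γ(S, U) Γ(X, V)) = p →
      ∃ Q' : PrimeSpectrum (((hV.primeIdealOf ⟨x, hx⟩).asIdeal.comap (algebraMap Γ(S, U) Γ(X, V))).Fiber Γ(X, V)),
        Q'.asIdeal.comap (Algebra.TensorProduct.includeRight.toRingHom) = (hV.primeIdealOf ⟨x, hx⟩).asIdeal ∧
        FlatMor.localDim _ Q' = FlatMor.localDim _ Q := by
    rintro p _ Q h rfl
    exact ⟨Q, h, rfl⟩
  obtain ⟨Q', hQ', hd⟩ := H _ Q hQ hp
  rw [← hQd, ← hd, Scheme.Hom.mem_smoothLocus, formallySmooth_stalkMap_iff U hU V hV e hx,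
    FlatLib.flat_stalkMap_iff (f := f) U hU V hV e hx]
  exact smoothLocus_iff _ _ _ Q' hQ'

end SmoothDimLib

end
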