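import Groth.Agent.SmoothDimLib.Chart
import Mathlib.RingTheory.Smooth.Local
import Mathlib.RingTheory.Localization.Algebra

/-!
# Smoothness over a field from the rank of the differentials and the dimension
-/

set_option autoImplicit false
set_option linter.style.haveILetI false
universe u
open TensorProduct

noncomputable section

namespace SmoothDimLib

variable {k : Type u} [Field k]

/-- Jacobian criterion: equations with independent differentials cut out something smooth. -/
theorem isSmoothAt_quotient {P : Type u} [CommRing P] [Algebra k P] [Algebra.FormallySmooth k P]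
    [Module.Free P Ω[P⁄k]] [Module.Finite P Ω[P⁄k]] {ι : Type u} [Finite ι] (f : ι → P)
    {Q₀ : Type u} [CommRing Q₀] [Algebra k Q₀] [Algebra P Q₀] [IsScalarTower k P Q₀]
    (hπ : Function.Surjective (algebraMap P Q₀)) (hker : RingHom.ker (algebraMap P Q₀) = Ideal.span (Set.range f))
    (K : Type u) [Field K] [Algebra P K] [Algebra Q₀ K] [IsScalarTower P Q₀ K]
    (q₀ : Ideal Q₀) [q₀.IsPrime] (hK : RingHom.ker (algebraMap Q₀ K) = q₀)
    (hli : LinearIndependent K fun i => (1 : K) ⊗ₜ[P] KaehlerDifferential.D k P (f i)) :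
    Algebra.IsSmoothAt k q₀ := by
  classical
  let q' := q₀.comap (algebraMap P Q₀)
  let P' := Localization.AtPrime q'
  let Q := Localization.AtPrime q₀
  letI algPQ : Algebra P' Q := (Localization.localRingHom q' q₀ (algebraMap P Q₀) rfl).toAlgebra
  haveI : IsScalarTower k P' Q := IsScalarTower.of_algebraMap_eq fun c => by
    rw [IsScalarTower.algebraMap_apply k P P', IsScalarTower.algebraMap_apply k Q₀ Q, RingHom.algebraMap_toAlgebra,
      Localization.localRingHom_to_map, ← IsScalarTower.algebraMap_apply k P Q₀]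
  have huQ : ∀ y : q₀.primeCompl, IsUnit (algebraMap Q₀ K y) := fun y =>
    IsUnit.mk0 _ fun h => y.2 (hK ▸ h : (y : Q₀) ∈ q₀)
  have huP : ∀ y : q'.primeCompl, IsUnit (algebraMap P K y) := fun y => by
    rw [IsScalarTower.algebraMap_apply P Q₀ K]
    exact huQ ⟨algebraMap P Q₀ y, y.2⟩
  letI : Algebra Q K := (IsLocalization.lift huQ).toAlgebra
  letI : Algebra P' K := (IsLocalization.lift huP).toAlgebra
  haveI : IsScalarTower P P' K := IsScalarTower.of_algebraMap_eq fun r => (IsLocalization.lift_eq huP r).symm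
  haveI : IsScalarTower P' Q K := IsScalarTower.of_algebraMap_eq' <| IsLocalization.ringHom_ext q'.primeCompl <|
    RingHom.ext fun r => by
      show IsLocalization.lift huP (algebraMap P P' r) =
        IsLocalization.lift huQ (Localization.localRingHom q' q₀ (algebraMap P Q₀) rfl (algebraMap P P' r))
      rw [Localization.localRingHom_to_map, IsLocalization.lift_eq, IsLocalization.lift_eq,
        IsScalarTower.algebraMap_apply P Q₀ K]
  haveI : Algebra.FormallySmooth P P' := Algebra.FormallySmooth.of_isLocalization q'.primeCompl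
  haveI : Algebra.FormallySmooth k P' := Algebra.FormallySmooth.comp k P P'
  haveI : Algebra.FormallyEtale P P' := Algebra.FormallyEtale.of_isLocalization q'.primeCompl
  let e := KaehlerDifferential.tensorKaehlerEquivOfFormallyEtale k P P'
  haveI : Module.Free P' Ω[P'⁄k] := Module.Free.of_equiv e
  haveI : Module.Finite P' Ω[P'⁄k] := Module.Finite.equiv e
  have hT : Submonoid.map (algebraMap P Q₀) q'.primeCompl = q₀.primeCompl := by
    ext y
    refine ⟨?_, fun hy => ?_⟩
    · rintro ⟨x, hx, rfl⟩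
      exact hx
    · obtain ⟨x, rfl⟩ := hπ y
      exact ⟨x, hy, rfl⟩
  have h₁ : Function.Surjective (algebraMap P' Q) := by
    intro z
    obtain ⟨a, s, rfl⟩ := IsLocalization.exists_mk'_eq q₀.primeCompl z
    obtain ⟨a, rfl⟩ := hπ a
    obtain ⟨t, ht⟩ := hπ s
    refine ⟨IsLocalization.mk' P' a (⟨t, fun h => s.2 (ht ▸ h)⟩ : q'.primeCompl), ?_⟩
    refine (Localization.localRingHom_mk' q' q₀ (algebraMap P Q₀) rfl a _).trans ?_
    exact congrArg (IsLocalization.mk' Q (algebraMap P Q₀ a)) (Subtype.ext ht)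
  have hker' : RingHom.ker (algebraMap P' Q) = Ideal.span (Set.range fun i => algebraMap P P' (f i)) := by
    refine (@IsLocalization.ker_map P P' Q₀ Q _ _ _ _ q'.primeCompl q₀.primeCompl _ _ _ _ (algebraMap P Q₀) hT).trans ?_
    rw [hker, Ideal.map_span, ← Set.range_comp]
    rfl
  have h₂ : (RingHom.ker (algebraMap P' Q)).FG := by
    rw [hker']
    exact Submodule.fg_span (Set.finite_range _)
  have h₃ : IsLocalRing.maximalIdeal Q ≤ RingHom.ker (algebraMap Q K) := by
    intro z hz
    obtain ⟨a, s, rfl⟩ := IsLocalization.exists_mk'_eq q₀.primeCompl z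
    replace hz := (IsLocalization.AtPrime.mk'_mem_maximal_iff Q q₀ a s).mp hz
    rw [RingHom.mem_ker]
    show IsLocalization.lift huQ (IsLocalization.mk' Q a s) = 0
    rw [IsLocalization.lift_mk'_spec, mul_zero]
    rw [← hK] at hz
    exact hz
  rw [Algebra.IsSmoothAt, Algebra.FormallySmooth.iff_injective_cotangentComplexBaseChange P' K h₁ h₂ h₃]
  let g : ι → RingHom.ker (algebraMap P' Q) := fun i =>
    ⟨algebraMap P P' (f i), hker'.ge (Ideal.subset_span ⟨i, rfl⟩)⟩
  have hg : Submodule.span P' (Set.range g) = ⊤ := by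
    apply Submodule.map_injective_of_injective (RingHom.ker (algebraMap P' Q)).injective_subtype
    rw [Submodule.map_span, Submodule.map_top, Submodule.range_subtype, ← Set.range_comp]
    exact hker'.symm
  have hspan : Submodule.span K (Set.range fun i => (1 : K) ⊗ₜ[P'] g i) = ⊤ := by
    rw [show Set.range (fun i => (1 : K) ⊗ₜ[P'] g i) =
        TensorProduct.mk P' K (RingHom.ker (algebraMap P' Q)) 1 '' Set.range g by
      rw [← Set.range_comp]; rfl, ← Submodule.baseChange_span, hg, Submodule.baseChange_top]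
  haveI := Fintype.ofFinite ι
  have hli' : LinearIndependent K fun i =>
      KaehlerDifferential.cotangentComplexBaseChange k Q P' K ((1 : K) ⊗ₜ g i) := by
    have h := hli.map' (tensorKaehlerLocEquiv (k := k) P P' q'.primeCompl K).toLinearMap (LinearEquiv.ker _)
    have heq : (fun i => KaehlerDifferential.cotangentComplexBaseChange k Q P' K ((1 : K) ⊗ₜ g i)) =
        ((tensorKaehlerLocEquiv (k := k) P P' q'.primeCompl K).toLinearMap ∘
          fun i => (1 : K) ⊗ₜ[P] KaehlerDifferential.D k P (f i)) := funext fun i => by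
      simp [tensorKaehlerLocEquiv_tmul, KaehlerDifferential.cotangentComplexBaseChange_tmul, g]
    rw [heq]
    exact h
  refine (injective_iff_map_eq_zero _).mpr fun z hz => ?_
  obtain ⟨c, rfl⟩ := (Submodule.mem_span_range_iff_exists_fun K).mp (hspan.ge (Submodule.mem_top (x := z)))
  rw [map_sum] at hz
  simp only [map_smul] at hz
  have hc := Fintype.linearIndependent_iff.mp hli' c hz
  exact Finset.sum_eq_zero fun i _ => by rw [hc i, zero_smul]

variable {S : Type u} [CommRing S] [Algebra k S] [Algebra.FiniteType k S]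

/-- Smoothness over a field at a point where the differentials need no more generators than the dimension. -/
theorem isSmoothAt_of_finrank_le (q : Ideal S) [q.IsPrime] (K : Type u) [Field K] [Algebra S K]
    (hK : RingHom.ker (algebraMap S K) = q)
    (h : (((Module.finrank K (K ⊗[S] Ω[S⁄k]) : ℕ) : ℕ∞) : WithBot ℕ∞) ≤
      FlatMor.localDim (PrimeSpectrum S) ⟨q, ‹_›⟩) :
    Algebra.IsSmoothAt k q := by
  classical
  obtain ⟨n, π, hπ⟩ := Algebra.FiniteType.iff_quotient_mvPolynomial''.mp ‹Algebra.FiniteType k S›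
  let P := MvPolynomial (Fin n) k
  letI : Algebra P S := π.toRingHom.toAlgebra
  haveI : IsScalarTower k P S := IsScalarTower.of_algebraMap_eq fun c => (π.commutes c).symm
  letI : Algebra P K := ((algebraMap S K).comp π.toRingHom).toAlgebra
  haveI : IsScalarTower P S K := IsScalarTower.of_algebraMap_eq' rfl
  let φ : RingHom.ker π.toRingHom → K ⊗[P] Ω[P⁄k] := fun a => 1 ⊗ₜ KaehlerDifferential.D k P a
  haveI : Module.Free P Ω[P⁄k] := Module.Free.of_basis (KaehlerDifferential.mvPolynomialBasis k (Fin n))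
  haveI : Module.Finite P Ω[P⁄k] := Module.Finite.of_basis (KaehlerDifferential.mvPolynomialBasis k (Fin n))
  obtain ⟨b, hbsub, hbspan, hbind⟩ := exists_linearIndependent K (Set.range φ)
  haveI : Finite b := hbind.finite
  choose a ha using fun y : b => hbsub y.2
  let f : b → P := fun y => (a y : P)
  let Q₀ := P ⧸ Ideal.span (Set.range f)
  have hle : Ideal.span (Set.range f) ≤ RingHom.ker π.toRingHom :=
    Ideal.span_le.mpr (by rintro _ ⟨y, rfl⟩; exact (a y).2)
  let π₀ : Q₀ →ₐ[k] S := Ideal.Quotient.liftₐ _ π fun x hx => hle hx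
  have hπ₀ : Function.Surjective π₀ := fun s => by
    obtain ⟨x, rfl⟩ := hπ s
    exact ⟨Ideal.Quotient.mk _ x, rfl⟩
  letI : Algebra Q₀ S := π₀.toRingHom.toAlgebra
  haveI : IsScalarTower k Q₀ S := IsScalarTower.of_algebraMap_eq fun c => (π₀.commutes c).symm
  letI : Algebra Q₀ K := ((algebraMap S K).comp π₀.toRingHom).toAlgebra
  haveI : IsScalarTower Q₀ S K := IsScalarTower.of_algebraMap_eq' rfl
  haveI : IsScalarTower P Q₀ K :=
    IsScalarTower.of_algebraMap_eq (R := P) (S := Q₀) (A := K) fun _ => rfl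
  let q₀ : Ideal Q₀ := q.comap π₀.toRingHom
  have hK₀ : RingHom.ker (algebraMap Q₀ K) = q₀ := by
    show RingHom.ker ((algebraMap S K).comp π₀.toRingHom) = _
    rw [← RingHom.comap_ker, hK]
  haveI : Algebra.IsSmoothAt k q₀ := isSmoothAt_quotient f Ideal.Quotient.mk_surjective
    (Ideal.mk_ker (I := Ideal.span (Set.range f))) K q₀ hK₀ (by
      rw [show (fun i => (1 : K) ⊗ₜ[P] KaehlerDifferential.D k P (f i)) =
        (Subtype.val : b → K ⊗[P] Ω[P⁄k]) from funext ha]
      exact hbind)
  haveI : Algebra.FiniteType k Q₀ := Algebra.FiniteType.of_surjective (Ideal.Quotient.mkₐ k _) Ideal.Quotient.mk_surjective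
  obtain ⟨g, hg, hdom, hdim, -⟩ := exists_chart (k := k) q₀ K hK₀
  -- the differentials of `Q₀` at the point are no bigger than those of `S`
  let Θ : K ⊗[P] Ω[P⁄k] →ₗ[K] K ⊗[Q₀] Ω[Q₀⁄k] :=
    LinearMap.liftBaseChange K
      (((TensorProduct.mk Q₀ K Ω[Q₀⁄k] 1).restrictScalars P).comp (KaehlerDifferential.map k k P Q₀))
  have hΘ : ∀ x : P, Θ (1 ⊗ₜ KaehlerDifferential.D k P x) =
      1 ⊗ₜ KaehlerDifferential.D k Q₀ (Ideal.Quotient.mk _ x) := fun x => by
    simp [Θ, KaehlerDifferential.map_D]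
    rfl
  have hΘ0 : ∀ x : P, π x = 0 → Θ (1 ⊗ₜ KaehlerDifferential.D k P x) = 0 := fun x hx => by
    have hmem : φ ⟨x, hx⟩ ∈ Submodule.span K (b : Set (K ⊗[P] Ω[P⁄k])) := hbspan.ge (Submodule.subset_span ⟨_, rfl⟩)
    refine (Submodule.span_le (p := LinearMap.ker Θ)).mpr (fun y hy => ?_) hmem
    show Θ y = 0
    rw [show y = φ (a ⟨y, hy⟩) from (ha ⟨y, hy⟩).symm, show φ (a ⟨y, hy⟩) = 1 ⊗ₜ KaehlerDifferential.D k P _ from rfl, hΘ, show Ideal.Quotient.mk (Ideal.span (Set.range f)) (a ⟨y, hy⟩ : P) = 0 from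
      Ideal.Quotient.eq_zero_iff_mem.mpr (Ideal.subset_span ⟨⟨y, hy⟩, rfl⟩), map_zero, tmul_zero]
  letI : Algebra k K := ((algebraMap S K).comp (algebraMap k S)).toAlgebra
  haveI : IsScalarTower k S K := IsScalarTower.of_algebraMap_eq' rfl
  haveI : IsScalarTower k Q₀ K := IsScalarTower.of_algebraMap_eq (R := k) (S := Q₀) (A := K) fun c =>
    congrArg (algebraMap S K) (π₀.commutes c).symm
  let σ := Function.surjInv hπ
  let dd : S → K ⊗[Q₀] Ω[Q₀⁄k] := fun s => Θ (1 ⊗ₜ KaehlerDifferential.D k P (σ s))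
  have hdd : ∀ x : P, dd (π x) = Θ (1 ⊗ₜ KaehlerDifferential.D k P x) := fun x => by
    rw [← sub_eq_zero, ← map_sub, ← tmul_sub, ← map_sub]
    exact hΘ0 _ (by rw [map_sub, Function.surjInv_eq hπ, sub_self])
  let Dl : S →ₗ[k] K ⊗[Q₀] Ω[Q₀⁄k] :=
    { toFun := dd
      map_add' := fun s t => by
        obtain ⟨x, rfl⟩ := hπ s
        obtain ⟨y, rfl⟩ := hπ t
        rw [← map_add, hdd, hdd, hdd, map_add, tmul_add, map_add]
      map_smul' := fun c s => by
        obtain ⟨x, rfl⟩ := hπ s
        rw [RingHom.id_apply, ← map_smul, hdd, hdd, hΘ, hΘ, ← TensorProduct.tmul_smul, ← Derivation.map_smul]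
        rfl }
  let D : Derivation k S (K ⊗[Q₀] Ω[Q₀⁄k]) := Derivation.mk' Dl fun s t => by
    obtain ⟨x, rfl⟩ := hπ s
    obtain ⟨y, rfl⟩ := hπ t
    show dd (π x * π y) = π x • dd (π y) + π y • dd (π x)
    rw [← map_mul, hdd, hdd, hdd, Derivation.leibniz, tmul_add, map_add]
    congr 1 <;> rw [← TensorProduct.smul_tmul, Algebra.smul_def, ← smul_eq_mul, ← TensorProduct.smul_tmul',
      map_smul] <;> exact algebraMap_smul K (π _) _
  let Ψ : K ⊗[S] Ω[S⁄k] →ₗ[K] K ⊗[Q₀] Ω[Q₀⁄k] := LinearMap.liftBaseChange K D.liftKaehlerDifferential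
  have hΨ : Function.Surjective Ψ := by
    rw [← LinearMap.range_eq_top, eq_top_iff, ← Submodule.baseChange_top,
      ← KaehlerDifferential.span_range_derivation k Q₀, Submodule.baseChange_span, Submodule.span_le]
    rintro _ ⟨_, ⟨y, rfl⟩, rfl⟩
    obtain ⟨x, rfl⟩ := Ideal.Quotient.mk_surjective y
    refine ⟨1 ⊗ₜ KaehlerDifferential.D k S (π x), ?_⟩
    show Ψ _ = (1 : K) ⊗ₜ KaehlerDifferential.D k Q₀ _
    rw [← hΘ, ← hdd]
    simp [Ψ, D, Dl]
  haveI : Module.Finite S Ω[S⁄k] := inferInstance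
  have hm : Module.finrank K (K ⊗[Q₀] Ω[Q₀⁄k]) ≤ Module.finrank K (K ⊗[S] Ω[S⁄k]) :=
    LinearMap.finrank_le_finrank_of_surjective hΨ
  -- the chart of `Q₀` maps isomorphically to `S`
  let A := Localization.Away g
  let S' := Localization.Away (π₀ g)
  let ψ : A →+* S' := Localization.awayMap π₀.toRingHom g
  have hψ : Function.Surjective ψ := Localization.awayMap_surjective_iff.mpr fun a => by
    obtain ⟨b, hb⟩ := hπ₀ a
    exact ⟨b, 0, by rw [pow_zero, one_mul]; exact hb⟩
  have hgq : π₀ g ∉ q := hg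
  have hdimS : FlatMor.localDim (PrimeSpectrum S) ⟨q, ‹_›⟩ ≤ ringKrullDim S' := by
    obtain ⟨x, hx⟩ : (⟨q, ‹_›⟩ : PrimeSpectrum S) ∈ Set.range (PrimeSpectrum.comap (algebraMap S S')) := by
      rw [PrimeSpectrum.localization_away_comap_range S' (π₀ g)]
      exact hgq
    rw [← hx, FibDimLib.localDim_eq_of_isOpenEmbedding (PrimeSpectrum.localization_away_isOpenEmbedding S' (π₀ g)) x,
      ← PrimeSpectrum.topologicalKrullDim_eq_ringKrullDim]
    refine (iInf_le _ ⟨⊤, trivial⟩).trans (le_of_eq ?_)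
    exact (Homeomorph.Set.univ (PrimeSpectrum S')).isHomeomorph.topologicalKrullDim_eq
  have hinj : Function.Injective ψ := by
    rw [RingHom.injective_iff_ker_eq_bot, eq_bot_iff]
    intro r hr
    rw [Ideal.mem_bot]
    by_contra hr0
    have h1 := ringKrullDim_succ_le_of_surjective ψ hψ (mem_nonZeroDivisors_of_ne_zero hr0) hr
    have h2 : (((Module.finrank K (K ⊗[S] Ω[S⁄k]) : ℕ) : ℕ∞) : WithBot ℕ∞) + 1 ≤
        (((Module.finrank K (K ⊗[S] Ω[S⁄k]) : ℕ) : ℕ∞) : WithBot ℕ∞) :=
      calc _ ≤ ringKrullDim S' + 1 := add_le_add_left (h.trans hdimS) 1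
        _ ≤ ringKrullDim A := h1
        _ = _ := hdim
        _ ≤ _ := by exact_mod_cast hm
    revert h2
    generalize Module.finrank K (K ⊗[S] Ω[S⁄k]) = m
    intro h2
    have h3 : m + 1 ≤ m := by exact_mod_cast h2
    omega
  let ξ : Localization.AtPrime q₀ →+* Localization.AtPrime q := Localization.localRingHom q₀ q π₀.toRingHom rfl
  have hξk : ∀ c : k, ξ (algebraMap k _ c) = algebraMap k _ c := fun c => by
    rw [IsScalarTower.algebraMap_apply k Q₀ (Localization.AtPrime q₀), IsScalarTower.algebraMap_apply k S (Localization.AtPrime q)]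
    show Localization.localRingHom q₀ q π₀.toRingHom rfl _ = _
    rw [Localization.localRingHom_to_map]
    exact congrArg (algebraMap S _) (π₀.commutes c)
  have hξ : Function.Bijective ξ := by
    refine ⟨(injective_iff_map_eq_zero _).mpr fun z hz => ?_, fun z => ?_⟩
    · obtain ⟨x, s, rfl⟩ := IsLocalization.exists_mk'_eq q₀.primeCompl z
      rw [show ξ (IsLocalization.mk' _ x s) = _ from Localization.localRingHom_mk' q₀ q π₀.toRingHom rfl x s,
        IsLocalization.mk'_eq_zero_iff] at hz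
      obtain ⟨⟨t, ht⟩, htx⟩ := hz
      obtain ⟨u, rfl⟩ := hπ₀ t
      have h0 : algebraMap Q₀ A (u * x) = 0 := hinj (by
        rw [map_zero]
        show IsLocalization.map _ _ _ _ = 0
        rw [IsLocalization.map_eq, map_mul]
        exact (congrArg (algebraMap S S') htx).trans (map_zero _))
      obtain ⟨⟨_, N, rfl⟩, hN⟩ := (IsLocalization.map_eq_zero_iff (Submonoid.powers g) A _).mp h0
      rw [IsLocalization.mk'_eq_zero_iff]
      refine ⟨⟨g ^ N * u, Ideal.IsPrime.mul_notMem (inferInstanceAs q₀.IsPrime)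
        (fun h' => hg (Ideal.IsPrime.mem_of_pow_mem (inferInstanceAs q₀.IsPrime) N h')) ht⟩, ?_⟩
      show g ^ N * u * x = 0
      rw [mul_assoc]
      exact hN
    · obtain ⟨a', s, rfl⟩ := IsLocalization.exists_mk'_eq q.primeCompl z
      obtain ⟨a', rfl⟩ := hπ₀ a'
      obtain ⟨t, ht⟩ := hπ₀ s
      refine ⟨IsLocalization.mk' _ a' (⟨t, fun h' => s.2 (ht ▸ h' : (s : S) ∈ q)⟩ : q₀.primeCompl), ?_⟩
      refine (Localization.localRingHom_mk' q₀ q π₀.toRingHom rfl a' _).trans ?_
      exact congrArg (IsLocalization.mk' _ (π₀ a')) (Subtype.ext ht)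
  haveI : Algebra.FormallySmooth k (Localization.AtPrime q₀) := ‹Algebra.IsSmoothAt k q₀›
  let ξa : Localization.AtPrime q₀ →ₐ[k] Localization.AtPrime q := ⟨ξ, hξk⟩
  have hξa : Function.Bijective ξa := hξ
  exact Algebra.FormallySmooth.of_equiv (R := k) (A := Localization.AtPrime q₀) (AlgEquiv.ofBijective ξa hξa)

/-- Smoothness over a field at a point in terms of differentials and dimension. -/
theorem isSmoothAt_iff (q : Ideal S) [q.IsPrime] :
    Algebra.IsSmoothAt k q ↔
      (((Module.finrank q.ResidueField (q.ResidueField ⊗[S] Ω[S⁄k]) : ℕ) : ℕ∞) : WithBot ℕ∞) ≤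
        FlatMor.localDim (PrimeSpectrum S) ⟨q, ‹_›⟩ := by
  have hK : RingHom.ker (algebraMap S q.ResidueField) = q := Ideal.ker_algebraMap_residueField q
  refine ⟨fun hs => ?_, isSmoothAt_of_finrank_le q _ hK⟩
  haveI := hs
  obtain ⟨g, -, -, -, h⟩ := exists_chart (k := k) q _ hK
  exact le_of_eq h.symm

end SmoothDimLib

end
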